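import Cfsg.Agent.H0.PG2
set_option maxRecDepth 100000
set_option Elab.async false
namespace H0.MM23
open H0 BN 
noncomputable def n0 : Net := (Net.cons (nat_lit 16) (nat_lit 0x9060) (Net.cons (nat_lit 8) (nat_lit 0x900090) (Net.cons (nat_lit 4) (nat_lit 0xd0500) (Net.cons (nat_lit 2) (nat_lit 0x132022) (Net.cons (nat_lit 1) (nat_lit 0x444) (Net.cons (nat_lit 2) (nat_lit 0x22) (Net.cons (nat_lit 4) (nat_lit 0x80400) (Net.cons (nat_lit 8) (nat_lit 0x900090) (Net.cons (nat_lit 16) (nat_lit 0x9060) Net.nil)))))))))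
noncomputable def n1 : Net := (Net.cons (nat_lit 16) (nat_lit 0x7240) (Net.cons (nat_lit 8) (nat_lit 0x780014) (Net.cons (nat_lit 4) (nat_lit 0xe020c08) (Net.cons (nat_lit 2) (nat_lit 0x22103020) (Net.cons (nat_lit 1) (nat_lit 0x14011005) (Net.cons (nat_lit 2) (nat_lit 0x22002000) (Net.cons (nat_lit 4) (nat_lit 0xc02040a) (Net.cons (nat_lit 8) (nat_lit 0x6a0014) (Net.cons (nat_lit 16) (nat_lit 0x7240) Net.nil)))))))))
noncomputable def n2 : Net := (Net.cons (nat_lit 16) (nat_lit 0x7240) (Net.cons (nat_lit 8) (nat_lit 0x6a0094) (Net.cons (nat_lit 4) (nat_lit 0xa02040a) (Net.cons (nat_lit 2) (nat_lit 0x30101020) (Net.cons (nat_lit 1) (nat_lit 0x50014005) (Net.cons (nat_lit 4) (nat_lit 0x8020c08) (Net.cons (nat_lit 8) (nat_lit 0x780010) (Net.cons (nat_lit 16) (nat_lit 0x7240) Net.nil))))))))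
noncomputable def n3 : Net := (Net.cons (nat_lit 16) (nat_lit 0x2600) (Net.cons (nat_lit 8) (nat_lit 0x6c0000) (Net.cons (nat_lit 4) (nat_lit 0xc00000c) (Net.cons (nat_lit 2) (nat_lit 0x2012220) (Net.cons (nat_lit 1) (nat_lit 0x44001110) (Net.cons (nat_lit 2) (nat_lit 0x2002220) (Net.cons (nat_lit 4) (nat_lit 0xc000008) (Net.cons (nat_lit 8) (nat_lit 0x4c0000) (Net.cons (nat_lit 16) (nat_lit 0x2600) Net.nil)))))))))
noncomputable def n4 : Net := (Net.cons (nat_lit 16) (nat_lit 0x424) (Net.cons (nat_lit 8) (nat_lit 0x50008c) (Net.cons (nat_lit 4) (nat_lit 0xc0508) (Net.cons (nat_lit 2) (nat_lit 0x10201202) (Net.cons (nat_lit 1) (nat_lit 0x410000) (Net.cons (nat_lit 4) (nat_lit 0x40c0800) (Net.cons (nat_lit 8) (nat_lit 0x500004) (Net.cons (nat_lit 16) (nat_lit 0x444) Net.nil))))))))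
noncomputable def n5 : Net := (Net.cons (nat_lit 16) (nat_lit 0x444) (Net.cons (nat_lit 8) (nat_lit 0x500004) (Net.cons (nat_lit 4) (nat_lit 0x40c0d00) (Net.cons (nat_lit 2) (nat_lit 0x10000302) (Net.cons (nat_lit 1) (nat_lit 0x410000) (Net.cons (nat_lit 2) (nat_lit 0x200000) (Net.cons (nat_lit 4) (nat_lit 0xc0008) (Net.cons (nat_lit 8) (nat_lit 0x50008c) (Net.cons (nat_lit 16) (nat_lit 0x424) Net.nil)))))))))
noncomputable def n6 : Net := (Net.cons (nat_lit 16) (nat_lit 0x3ac) (Net.cons (nat_lit 8) (nat_lit 0x8400a4) (Net.cons (nat_lit 4) (nat_lit 0x80b0c02) (Net.cons (nat_lit 2) (nat_lit 0x3202012) (Net.cons (nat_lit 1) (nat_lit 0x4401044) (Net.cons (nat_lit 2) (nat_lit 0x2002) (Net.cons (nat_lit 4) (nat_lit 0x8080806) (Net.cons (nat_lit 8) (nat_lit 0x8400c0) (Net.cons (nat_lit 16) (nat_lit 0x3ac) Net.nil)))))))))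
noncomputable def n7 : Net := (Net.cons (nat_lit 16) (nat_lit 0x3ac) (Net.cons (nat_lit 8) (nat_lit 0x8400a0) (Net.cons (nat_lit 4) (nat_lit 0x8070804) (Net.cons (nat_lit 2) (nat_lit 0x3003030) (Net.cons (nat_lit 1) (nat_lit 0x1045010) (Net.cons (nat_lit 2) (nat_lit 0x20020) (Net.cons (nat_lit 4) (nat_lit 0x8040c00) (Net.cons (nat_lit 8) (nat_lit 0x840080) (Net.cons (nat_lit 16) (nat_lit 0x3ac) Net.nil)))))))))
noncomputable def n8 : Net := (Net.cons (nat_lit 16) (nat_lit 0xd408) (Net.cons (nat_lit 8) (nat_lit 0x780030) (Net.cons (nat_lit 4) (nat_lit 0xc020a04) (Net.cons (nat_lit 2) (nat_lit 0x30102020) (Net.cons (nat_lit 1) (nat_lit 0x44101004) (Net.cons (nat_lit 4) (nat_lit 0x20a08) (Net.cons (nat_lit 8) (nat_lit 0x780010) (Net.cons (nat_lit 16) (nat_lit 0xd460) Net.nil))))))))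
noncomputable def n9 : Net := (Net.cons (nat_lit 16) (nat_lit 0xd460) (Net.cons (nat_lit 8) (nat_lit 0x780010) (Net.cons (nat_lit 4) (nat_lit 0x20a08) (Net.cons (nat_lit 2) (nat_lit 0x30300020) (Net.cons (nat_lit 1) (nat_lit 0x14401004) (Net.cons (nat_lit 2) (nat_lit 0x202000) (Net.cons (nat_lit 4) (nat_lit 0xc020a04) (Net.cons (nat_lit 8) (nat_lit 0x780030) (Net.cons (nat_lit 16) (nat_lit 0xd408) Net.nil)))))))))
noncomputable def n10 : Net := (Net.cons (nat_lit 16) (nat_lit 0x7ff0) (Net.cons (nat_lit 8) (nat_lit 0xc20000) (Net.cons (nat_lit 4) (nat_lit 0x9010008) (Net.cons (nat_lit 2) (nat_lit 0x31120000) (Net.cons (nat_lit 1) (nat_lit 0x4000040) (Net.cons (nat_lit 2) (nat_lit 0x20) (Net.cons (nat_lit 4) (nat_lit 0xc000008) (Net.cons (nat_lit 8) (nat_lit 0xe40000) (Net.cons (nat_lit 16) (nat_lit 0x7ff0) Net.nil)))))))))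
noncomputable def n11 : Net := (Net.cons (nat_lit 16) (nat_lit 0x7ff0) (Net.cons (nat_lit 8) (nat_lit 0xde0000) (Net.cons (nat_lit 4) (nat_lit 0xd0008) (Net.cons (nat_lit 2) (nat_lit 0x33210020) (Net.cons (nat_lit 1) (nat_lit 0x10000040) (Net.cons (nat_lit 2) (nat_lit 0x20000000) (Net.cons (nat_lit 4) (nat_lit 0xc0008) (Net.cons (nat_lit 8) (nat_lit 0xa80000) (Net.cons (nat_lit 16) (nat_lit 0x7ff0) Net.nil)))))))))
noncomputable def n12 : Net := (Net.cons (nat_lit 16) (nat_lit 0x26c8) (Net.cons (nat_lit 8) (nat_lit 0x40020) (Net.cons (nat_lit 4) (nat_lit 0x70408) (Net.cons (nat_lit 2) (nat_lit 0x2030130) (Net.cons (nat_lit 1) (nat_lit 0x4541410) (Net.cons (nat_lit 2) (nat_lit 0x2000020) (Net.cons (nat_lit 4) (nat_lit 0xa0c08) (Net.cons (nat_lit 8) (nat_lit 0x240020) (Net.cons (nat_lit 16) (nat_lit 0x2698) Net.nil)))))))))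
noncomputable def n13 : Net := (Net.cons (nat_lit 16) (nat_lit 0x2698) (Net.cons (nat_lit 8) (nat_lit 0x240020) (Net.cons (nat_lit 4) (nat_lit 0x50c08) (Net.cons (nat_lit 2) (nat_lit 0x2300310) (Net.cons (nat_lit 1) (nat_lit 0x4151140) (Net.cons (nat_lit 2) (nat_lit 0x2000200) (Net.cons (nat_lit 4) (nat_lit 0x80408) (Net.cons (nat_lit 8) (nat_lit 0x40020) (Net.cons (nat_lit 16) (nat_lit 0x26c8) Net.nil)))))))))
noncomputable def n14 : Net := (Net.cons (nat_lit 16) (nat_lit 0x2130) (Net.cons (nat_lit 8) (nat_lit 0xa00c0) (Net.cons (nat_lit 4) (nat_lit 0x8050e00) (Net.cons (nat_lit 2) (nat_lit 0x20200000) (Net.cons (nat_lit 1) (nat_lit 0x1405440) (Net.cons (nat_lit 2) (nat_lit 0x200000) (Net.cons (nat_lit 4) (nat_lit 0x8040200) (Net.cons (nat_lit 8) (nat_lit 0xa00c0) (Net.cons (nat_lit 16) (nat_lit 0x2130) Net.nil)))))))))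
noncomputable def n15 : Net := (Net.cons (nat_lit 16) (nat_lit 0x2010) (Net.cons (nat_lit 8) (nat_lit 0x2000b0) (Net.cons (nat_lit 4) (nat_lit 0xe0e00) (Net.cons (nat_lit 2) (nat_lit 0x302010) (Net.cons (nat_lit 1) (nat_lit 0x510100) (Net.cons (nat_lit 4) (nat_lit 0xe0a00) (Net.cons (nat_lit 8) (nat_lit 0x200030) (Net.cons (nat_lit 16) (nat_lit 0x2010) Net.nil))))))))
noncomputable def n16 : Net := (Net.cons (nat_lit 16) (nat_lit 0xfff0) (Net.cons (nat_lit 8) (nat_lit 0xf80000) (Net.cons (nat_lit 4) (nat_lit 0x3020000) (Net.cons (nat_lit 2) (nat_lit 0x20100010) (Net.cons (nat_lit 1) (nat_lit 0x51440010) (Net.cons (nat_lit 2) (nat_lit 0x2200000) (Net.cons (nat_lit 4) (nat_lit 0x8020000) (Net.cons (nat_lit 8) (nat_lit 0x4c0000) (Net.cons (nat_lit 16) (nat_lit 0xfff0) Net.nil)))))))))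
noncomputable def n17 : Net := (Net.cons (nat_lit 16) (nat_lit 0xfff0) (Net.cons (nat_lit 8) (nat_lit 0x4c0000) (Net.cons (nat_lit 4) (nat_lit 0x7020000) (Net.cons (nat_lit 2) (nat_lit 0x21100030) (Net.cons (nat_lit 1) (nat_lit 0x15140040) (Net.cons (nat_lit 2) (nat_lit 0x200020) (Net.cons (nat_lit 4) (nat_lit 0xc020000) (Net.cons (nat_lit 8) (nat_lit 0xf80000) (Net.cons (nat_lit 16) (nat_lit 0xfff0) Net.nil)))))))))
noncomputable def n18 : Net := (Net.cons (nat_lit 16) (nat_lit 0xc000) (Net.cons (nat_lit 8) (nat_lit 0xf00000) (Net.cons (nat_lit 4) (nat_lit 0x40800) (Net.cons (nat_lit 2) (nat_lit 0x30032300) (Net.cons (nat_lit 1) (nat_lit 0x40441440) (Net.cons (nat_lit 2) (nat_lit 0x20000220) (Net.cons (nat_lit 4) (nat_lit 0x80800) (Net.cons (nat_lit 8) (nat_lit 0xf00000) (Net.cons (nat_lit 16) (nat_lit 0xc000) Net.nil)))))))))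
noncomputable def n19 : Net := (Net.cons (nat_lit 16) (nat_lit 0xc000) (Net.cons (nat_lit 8) (nat_lit 0xf00000) (Net.cons (nat_lit 4) (nat_lit 0x80800) (Net.cons (nat_lit 2) (nat_lit 0x10030120) (Net.cons (nat_lit 1) (nat_lit 0x10411140) (Net.cons (nat_lit 2) (nat_lit 0x2000) (Net.cons (nat_lit 4) (nat_lit 0x40800) (Net.cons (nat_lit 8) (nat_lit 0xf00000) (Net.cons (nat_lit 16) (nat_lit 0xc000) Net.nil)))))))))
noncomputable def n20 : Net := (Net.cons (nat_lit 16) (nat_lit 0xf690) (Net.cons (nat_lit 8) (nat_lit 0xf40007) (Net.cons (nat_lit 4) (nat_lit 0xc0d0003) (Net.cons (nat_lit 2) (nat_lit 0x10300300) (Net.cons (nat_lit 1) (nat_lit 0x4510001) (Net.cons (nat_lit 2) (nat_lit 0x2020002) (Net.cons (nat_lit 4) (nat_lit 0xa000002) (Net.cons (nat_lit 8) (nat_lit 0x20000e) (Net.cons (nat_lit 16) (nat_lit 0xf6c2) Net.nil)))))))))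
def B : List (List ℕ) := [[0, 0], [1, 2], [2, 1], [3, 3], [4, 5], [5, 4], [6, 7], [7, 6], [8, 9], [9, 8], [10, 11], [11, 10], [12, 13], [13, 12], [14, 14], [15, 15], [16, 17], [17, 16], [18, 19], [19, 18], [18, 18, 18], [16, 16, 16], [14, 17, 14, 19], [14, 15, 14, 15], [14, 15, 14, 15], [14, 16, 14, 16, 14, 16], [14, 16, 14, 17, 14, 16, 14, 17], [14, 17, 14, 17, 14, 17], [15, 16, 15, 16, 15, 16], [15, 16, 15, 17, 15, 16, 15, 17], [15, 17, 15, 17, 15, 17], [17, 15, 16, 18, 15, 19], [10, 10, 10], [12, 12, 12, 12], [13, 10, 12, 12, 11, 13, 14], [10, 13, 10, 12, 10, 12, 11, 12, 15], [11, 12, 12, 17], [10, 12, 10, 12, 10, 12, 10, 12, 10, 12], [10, 12, 11, 13, 10, 12, 11, 13, 10, 12, 11, 13, 10, 12, 11, 13, 10, 12, 11, 13], [10, 13, 10, 13, 10, 13, 10, 13, 10, 13], [10, 19, 10, 19], [10, 14, 11, 19, 17], [11, 15, 10, 16, 15, 17, 14], [10, 15, 11, 17, 15, 16, 14], [12, 11, 17, 13, 14], [12,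 17, 19, 12, 18, 16], [12, 19, 13, 10, 13, 15], [6, 6, 6, 6], [8, 8, 8], [6, 9, 7, 11], [7, 8, 7, 9, 6, 9, 13], [6, 8, 6, 8, 6, 8, 6, 8, 6, 8, 6, 8, 6, 8], [6, 8, 7, 9, 6, 8, 7, 9, 6, 8, 7, 9, 6, 8, 7, 9, 6, 8, 7, 9], [6, 9, 6, 9, 6, 9, 6, 9, 6, 9], [9, 13, 9, 13, 15], [6, 18, 6, 17, 14, 13], [7, 11, 14, 7, 11, 14], [7, 12, 11, 7, 12, 11], [9, 16, 6, 12, 11, 15, 12], [9, 11, 6, 15, 10, 13, 10], [6, 15, 16, 7, 11, 15, 19, 10], [4, 4, 4, 4], [4, 3, 5, 3, 5, 7], [5, 5, 3, 5, 3, 4, 3, 4, 3, 4, 9], [3, 4, 3, 4, 3, 4, 3, 4, 3, 4, 3, 4, 3, 4, 3, 4, 3, 4, 3, 4, 3, 4], [3, 4, 3, 5, 3, 4, 3, 5, 3, 4, 3, 5, 3, 4, 3, 5, 3, 4, 3, 5, 3, 4, 3, 5], [3, 5, 3, 5, 3, 5, 3, 5, 3, 5, 3, 5, 3, 5, 3, 5, 3, 5, 3, 5, 3, 5], [3, 11, 7, 9, 7], [4, 19, 5, 9, 17, 12, 9], [4, 14, 5, 8, 16, 10, 9], [5, 11, 4, 8, 12, 18, 9, 7], [4, 15, 5, 16, 6, 11, 9, 7], [5, 17, 3, 5, 8, 13, 18, 11], [4, 8, 7, 5, 19, 8, 6, 11, 8],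 [4, 9, 13, 5, 9, 6, 18, 10], [1, 1, 1, 1], [1, 0, 2, 3], [2, 0, 2, 0, 2, 0, 1, 0, 1, 5], [0, 1, 0, 2, 0, 1, 0, 2, 0, 1, 0, 2, 0, 1, 0, 2, 0, 1, 0, 2], [0, 17, 5, 3, 13, 3, 4], [2, 14, 1, 4, 14, 5], [2, 19, 1, 15, 18, 14, 13], [2, 15, 1, 13, 9, 3, 7, 3], [2, 9, 1, 9, 19, 9, 3, 4], [2, 7, 1, 16, 3, 19, 3, 4], [1, 3, 2, 11, 9, 4, 15, 5], [1, 8, 16, 2, 3, 11, 16, 3], [1, 15, 17, 2, 18, 3, 19, 3], [1, 11, 4, 19, 2, 7, 12, 8], [2, 0, 5, 2, 17, 5, 3, 13, 3]]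
def inv (x : ℕ) : ℕ := [0, 2, 1, 3, 5, 4, 7, 6, 9, 8, 11, 10, 13, 12, 14, 15, 17, 16, 19, 18].getD x 0
noncomputable def nl : List Net := [n0, n1, n2, n3, n4, n5, n6, n7, n8, n9, n10, n11, n12, n13, n14, n15, n16, n17, n18, n19, n20]
theorem nl_ok : allL (Net.ok (nat_lit 32)) nl = true := by decide +kernel
noncomputable def R : Rep := mkRep (nat_lit 5) (nat_lit 32) nl (by decide +kernel) nl_ok
def defs : List (List ℕ) := [[2, 0]]
theorem R_ge : ∀ x, 20 + defs.length ≤ x → R.p x = 1 := fun _ hx => mkRep_ge hx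
def ngSt : List (List (ℕ × List ℕ) × List ℕ × ℕ × ℕ) := [([(0, [8])], [0], 7, 2), ([(1, [])], [10], 4, 3), ([(2, [])], [11], 1, 3), ([(2, [])], [16], 2, 3), ([(4, [])], [17], 1, 3), ([(3, [])], [18], 2, 3), ([(6, [])], [19], 1, 3), ([(2, [])], [14], 3, 2), ([(2, [])], [15], 3, 2), ([(5, [])], [8], 4, 3), ([(10, [])], [9], 1, 3), ([(11, [])], [1], 3, 4), ([(12, [])], [2], 1, 4), ([(1, [])], [3], 5, 2), ([(2, [])], [6], 5, 4), ([(15, [])], [7], 1, 4), ([(15, [])], [12], 3, 4), ([(17, [])], [13], 1, 4), ([(17, [])], [4], 5, 4), ([(19, [])], [5], 1, 4)]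
def ngR : List (List ℕ) := ngRels inv ngSt [[20]]
def xR : List (List ℕ) := [wpow [20] 23]
theorem c0 : relsW R 0 R.lg ((B.drop 0).take 90) = true := by decide +kernel
theorem c1 : defsChk R defs 20 = true := by decide +kernel
theorem c2 : Model.fixW R [] [[0], [1]] = true := by decide +kernel
theorem c3 : Model.growW R [[0], [1]] [1, 1, 1, 0, 1, 0, 1, 1, 0, 1, 0, 1, 0, 1, 0] (Nat.pow 2 0) (ival 0 23) = true := by decide +kernel
theorem c4 : Model.fixW R [0] [[3], [4]] = true := by decide +kernel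
theorem c5 : Model.growW R [[3], [4]] [1, 0, 1, 0, 1, 0, 1, 0, 1, 0, 1, 1, 0, 1] (Nat.pow 2 1) (ival 1 22) = true := by decide +kernel
theorem c6 : Model.fixW R [1, 0] [[6], [8]] = true := by decide +kernel
theorem c7 : Model.growW R [[6], [8]] [0, 0, 1, 0, 1, 0, 0, 0, 1, 0] (Nat.pow 2 2) (ival 2 21) = true := by decide +kernel
theorem c8 : Model.fixW R [2, 1, 0] [[10], [12]] = true := by decide +kernel
theorem c9 : Model.growW R [[10], [12]] [0, 1, 0, 1, 0, 1] (Nat.pow 2 3) (ival 3 20) = true := by decide +kernel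
theorem c10 : Model.fixW R [3, 2, 1, 0] [[14], [15], [16]] = true := by decide +kernel
theorem c11 : Model.growW R [[14], [15], [16]] [0, 1, 2, 0, 1] (Nat.pow 2 4) (ival 4 16) = true := by decide +kernel
theorem c12 : Model.fixW R [4, 3, 2, 1, 0] [[18]] = true := by decide +kernel
theorem c13 : Model.growW R [[18]] [0, 0] (Nat.pow 2 5) (ival 5 3) = true := by decide +kernel
theorem c14 : Model.growW R [[0], [1]] [1, 1, 1, 0, 1, 0, 1, 1, 0, 1, 0, 1, 0, 1, 0] (Nat.pow 2 0) (ival 0 23) = true := by decide +kernel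
theorem c15 : Model.invW R [[0], [1], [2], [3], [4], [5], [6], [7], [8], [9], [10], [11], [12], [13], [14], [15], [16], [17], [18], [19]] 0 23 = true := by decide +kernel
theorem c16 : Model.fixW R [0] [[3], [4]] = true := by decide +kernel
theorem c17 : Model.growW R [[3], [4]] [1, 0, 1, 0, 1, 0, 1, 0, 1, 0, 1, 1, 0, 1] (Nat.pow 2 1) (ival 1 22) = true := by decide +kernel
theorem c18 : mapsW R [1] (Nat.pow 2 0) (Nat.pow 2 1) = true := by decide +kernel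
theorem c19 : Model.growW R [[1], [3], [4]] [0, 0, 2, 0, 1, 0, 2, 0] (Nat.pow 2 0) (ival 0 23) = true := by decide +kernel
theorem c20 : relsW R 0 R.lg ((ngR.drop 0).take 40) = true := by decide +kernel
theorem c21 : relsW R 0 R.lg ((xR.drop 0).take 1) = true := by decide +kernel
end H0.MM23
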